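import Cfsg.Agent.Lib.Sporadic.ThPres.SubU.Tree0

set_option autoImplicit false
set_option maxRecDepth 20000

/-! Generated certificate: cosets of <a,c,d,e> in <abcde> (tools/cosetbound/gen_pairs.py; generated; owner: helper9). -/

namespace CfsgLib.Sporadic.ThPres.SubU
open CfsgLib.Recog.SporBound (Q)

noncomputable def factTree : Q (ℕ) := ft6
noncomputable def nodeTree : Q (ℕ) := ct0
noncomputable def stepTree : Q (List ℕ) := st9
noncomputable def finalTree : Q (List ℕ) := et10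

/-- The certificate. -/
noncomputable def cert : CfsgLib.Sporadic.PairEnum.Cert where
  n := 126
  nd := 178
  nf := 749
  nl := 10
  kl := [0, 2, 4, 6, 8]
  facts := factTree
  cn := nodeTree
  steps := stepTree
  finals := finalTree
  rels := [[0, 0],
    [2, 2],
    [4, 4],
    [6, 6],
    [8, 8],
    [0, 2, 0, 2, 0, 2],
    [0, 8, 0, 8],
    [2, 4, 2, 4, 2, 4],
    [2, 6, 2, 6],
    [2, 8, 2, 8],
    [0, 7, 5, 7, 5, 7, 5, 7, 5],
    [4, 8, 4, 8],
    [6, 8, 6, 8, 6, 8],
    [2, 4, 6, 8, 2, 4, 6, 8, 2, 4, 6, 8, 2, 4, 6, 8, 2, 4, 6, 8, 2, 4, 6, 8, 2, 4, 6, 8, 2, 4, 6, 8]]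
  subs := [[0],
    [4],
    [6],
    [8]]

/-- Traced words with their chains. -/
noncomputable def closers : List (List ℕ × ℕ) :=
  []

end CfsgLib.Sporadic.ThPres.SubU
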