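import Cfsg.Agent.Lib.Sporadic.ThPres.SubU.Data

set_option autoImplicit false
set_option maxRecDepth 20000

/-! Generated certificate: cosets of <a,c,d,e> in <abcde> (tools/cosetbound/gen_pairs.py; generated; owner: helper9). -/

namespace CfsgLib.Sporadic.ThPres.SubU
open CfsgLib.Recog.SporBound (Q)
open CfsgLib.Sporadic.PairEnum
open CfsgLib.ThreeTrans.CosetIndex (forallFrom)

set_option Elab.async false

theorem steps0 : cert.stepsPart cert.allRels 0 9 = true := by decide +kernel

theorem finals0 : cert.finalsPart 0 10 = true := by decide +kernel

theorem defs0 : forallFrom cert.defOK 0 178 = true := by decide +kernel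

end CfsgLib.Sporadic.ThPres.SubU
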